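import Mathlib
import Cfsg.Agent.Lib.Helper41.CS3.GoodDefs

/-!
# CS3 (S4284), part GOOD, package [EXY]

A non-abelian `s`-subgroup `S` has an element `y` of its second center, outside its center,
with `y ^ s` central in `S`.
-/

set_option autoImplicit false

namespace Cfsg.Agent.Lib.Helper84.CS3

open Cfsg.Agent.Lib.Helper41.CS3

universe u

theorem pkgExy : PkgExy.{u} := by
  intro G _ _ s hs S hS hnab
  haveI : Fact s.Prime := ⟨hs⟩
  have hZne : Subgroup.center ↥S ≠ ⊤ := by
    intro h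
    apply hnab
    intro x hx y hy
    have hmem : (⟨x, hx⟩ : ↥S) ∈ Subgroup.center ↥S := by rw [h]; trivial
    have h2 := Subgroup.mem_center_iff.mp hmem ⟨y, hy⟩
    exact (congrArg Subtype.val h2).symm
  have hQp : IsPGroup s (↥S ⧸ Subgroup.center ↥S) := hS.to_quotient _
  haveI : Nontrivial (↥S ⧸ Subgroup.center ↥S) := by
    by_contra hnt
    rw [not_nontrivial_iff_subsingleton] at hnt
    exact hZne (QuotientGroup.subgroup_eq_top_of_subsingleton _ hnt)
  haveI hcn : Nontrivial (Subgroup.center (↥S ⧸ Subgroup.center ↥S)) := hQp.center_nontrivial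
  have hcp : IsPGroup s (Subgroup.center (↥S ⧸ Subgroup.center ↥S)) := hQp.to_subgroup _
  have hdvd : s ∣ Nat.card (Subgroup.center (↥S ⧸ Subgroup.center ↥S)) := by
    obtain ⟨k, hk⟩ := IsPGroup.iff_card.mp hcp
    have hk0 : k ≠ 0 := by
      rintro rfl
      rw [pow_zero] at hk
      have := Finite.one_lt_card (α := Subgroup.center (↥S ⧸ Subgroup.center ↥S))
      omega
    rw [hk]
    exact dvd_pow_self s hk0
  obtain ⟨c, hc⟩ := exists_prime_orderOf_dvd_card' s hdvd
  obtain ⟨y', hy'⟩ := QuotientGroup.mk_surjective (c : ↥S ⧸ Subgroup.center ↥S)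
  have hcord : orderOf (c : ↥S ⧸ Subgroup.center ↥S) = s := by
    rw [Subgroup.orderOf_coe]; exact hc
  have hcne : (c : ↥S ⧸ Subgroup.center ↥S) ≠ 1 := by
    intro h
    rw [h, orderOf_one] at hcord
    exact hs.one_lt.ne hcord
  have hcs : (c : ↥S ⧸ Subgroup.center ↥S) ^ s = 1 := by
    rw [← hcord]; exact pow_orderOf_eq_one _
  have hccen := Subgroup.mem_center_iff.mp c.2
  have hynot : y' ∉ Subgroup.center ↥S := by
    intro h
    apply hcne
    rw [← hy']
    exact (QuotientGroup.eq_one_iff y').mpr h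
  refine ⟨(y' : G), ⟨y'.2, ?_, ?_, ?_, ?_⟩⟩
  · obtain ⟨k, hk⟩ := IsPGroup.iff_orderOf.mp hS y'
    exact ⟨k, by rw [Subgroup.orderOf_coe]; exact hk⟩
  · rw [Subgroup.mem_center_iff] at hynot
    push_neg at hynot
    obtain ⟨g, hg⟩ := hynot
    refine ⟨(g : G), g.2, ?_⟩
    intro h
    apply hg
    apply Subtype.ext
    simpa using h.symm
  · intro σ hσ τ hτ
    have hmem : (⟨σ, hσ⟩ : ↥S) * y' * (⟨σ, hσ⟩ : ↥S)⁻¹ * y'⁻¹ ∈ Subgroup.center ↥S := by
      rw [← QuotientGroup.eq_one_iff]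
      simp only [QuotientGroup.mk_mul, QuotientGroup.mk_inv]
      rw [hy']
      rw [hccen (QuotientGroup.mk ⟨σ, hσ⟩)]
      group
    have h2 := Subgroup.mem_center_iff.mp hmem ⟨τ, hτ⟩
    have h3 := congrArg Subtype.val h2
    simpa using h3.symm
  · intro τ hτ
    have hmem : y' ^ s ∈ Subgroup.center ↥S := by
      rw [← QuotientGroup.eq_one_iff]
      simp only [QuotientGroup.mk_pow]
      rw [hy']
      exact hcs
    have h2 := Subgroup.mem_center_iff.mp hmem ⟨τ, hτ⟩
    have h3 := congrArg Subtype.val h2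
    simpa using h3.symm

end Cfsg.Agent.Lib.Helper84.CS3
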